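import Groth.Agent.Lib.Graded.PolyDepth
import Groth.Agent.Lib.Graded.Poly
import Groth.Agent.Lib.Depth.Span
import Groth.Agent.Lib.Depth.Ext
import Mathlib.RingTheory.PowerSeries.Basic
import Mathlib.RingTheory.MvPolynomial.Basic
import Mathlib.Algebra.Polynomial.BigOperators
import Mathlib.Algebra.Ring.GeomSum
import Mathlib.RingTheory.MvPolynomial.WeightedHomogeneous
import Mathlib.LinearAlgebra.FiniteDimensional.Lemmas

/-!
# Weighted homogeneous complete intersections: regularity and Hilbert series
-/

universe u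

set_option linter.unusedSectionVars false

open MvPolynomial

namespace Groth.Agent.Lib.GrCI62

variable {R : Type u} [CommRing R] {k : ℕ}

/-- The ideal of the first `i` elements. -/
def pre {A : Type u} [CommRing A] (g : Fin k → A) (i : ℕ) : Ideal A :=
  Ideal.span (g '' {j | (j : ℕ) < i})

/-- The elements form a weakly regular sequence. -/
def Reg {A : Type u} [CommRing A] (g : Fin k → A) : Prop :=
  ∀ i : Fin k, ∀ a, a * g i ∈ pre g i → a ∈ pre g i

section Basic

variable {A : Type u} [CommRing A] (g : Fin k → A)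

theorem pre_le {i : ℕ} : pre g i ≤ Ideal.span (Set.range g) :=
  Ideal.span_mono (Set.image_subset_range _ _)

theorem pre_self : pre g k = Ideal.span (Set.range g) := by
  rw [pre, show {j : Fin k | (j : ℕ) < k} = Set.univ from Set.eq_univ_of_forall fun j => j.2,
    Set.image_univ]

theorem pre_zero : pre g 0 = ⊥ := by
  rw [pre]; simp

theorem mem_pre {i : ℕ} {j : Fin k} (h : (j : ℕ) < i) : g j ∈ pre g i :=
  Ideal.subset_span ⟨j, h, rfl⟩

theorem pre_mono {i j : ℕ} (h : i ≤ j) : pre g i ≤ pre g j :=
  Ideal.span_mono (Set.image_mono fun x hx => lt_of_lt_of_le (hx) h)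

theorem pre_succ (i : Fin k) : pre g ((i : ℕ) + 1) = pre g i ⊔ Ideal.span {g i} := by
  refine le_antisymm (Ideal.span_le.mpr ?_) (sup_le (pre_mono g (Nat.le_succ _))
    ((Ideal.span_singleton_le_iff_mem _).mpr (mem_pre g (Nat.lt_succ_self _))))
  rintro _ ⟨j, hj, rfl⟩
  rcases (Nat.lt_succ_iff.mp hj).lt_or_eq with h | h
  · exact Ideal.mem_sup_left (mem_pre g h)
  · rw [Fin.ext h]; exact Ideal.mem_sup_right (Ideal.mem_span_singleton_self _)

theorem ofList_take (i : ℕ) : Ideal.ofList ((List.ofFn g).take i) = pre g i := by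
  refine congrArg Ideal.span (Set.ext fun x => ?_)
  simp only [Set.mem_setOf_eq, List.mem_take_iff_getElem, List.length_ofFn, List.getElem_ofFn,
    Set.mem_image]
  constructor
  · rintro ⟨j, hj, rfl⟩
    exact ⟨⟨j, (lt_min_iff.mp hj).2⟩, (lt_min_iff.mp hj).1, rfl⟩
  · rintro ⟨j, hj, rfl⟩
    exact ⟨j, lt_min hj j.2, rfl⟩

theorem isWeaklyRegular_iff : RingTheory.Sequence.IsWeaklyRegular A (List.ofFn g) ↔ Reg g := by
  rw [RingTheory.Sequence.isWeaklyRegular_iff]
  simp only [List.length_ofFn, List.getElem_ofFn]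
  have h : ∀ i : Fin k, IsSMulRegular (A ⧸ (Ideal.ofList ((List.ofFn g).take i) • ⊤ : Submodule A A))
      (g i) ↔ ∀ a, a * g i ∈ pre g i → a ∈ pre g i := by
    intro i
    rw [isSMulRegular_quotient_iff_mem_of_smul_mem]
    simp only [smul_eq_mul, Ideal.mul_top, ofList_take, mul_comm (g i)]
  exact ⟨fun hw i => (h i).mp (hw i i.2), fun hr i hi => (h ⟨i, hi⟩).mpr (hr ⟨i, hi⟩)⟩

end Basic

section Homogeneous

variable {δ : Fin k → ℕ}

theorem comp_mul {g : MvPolynomial (Fin k) R} {e : ℕ} (hg : IsWeightedHomogeneous δ g e) (u : ℕ)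
    (a : MvPolynomial (Fin k) R) :
    weightedHomogeneousComponent δ u (a * g) =
      if e ≤ u then weightedHomogeneousComponent δ (u - e) a * g else 0 := by
  classical
  induction a using MvPolynomial.induction_on' with
  | monomial d c =>
    have h1 : IsWeightedHomogeneous δ (monomial d c) (Finsupp.weight δ d) :=
      isWeightedHomogeneous_monomial δ d c rfl
    rw [weightedHomogeneousComponent_of_mem (h1.mul hg), weightedHomogeneousComponent_of_mem h1]
    split_ifs with h2 h3 h4 h4 <;> first | rfl | (exfalso; omega) | simp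
  | add p q hp hq =>
    rw [add_mul, map_add, hp, hq]
    split_ifs
    · rw [map_add, add_mul]
    · rw [add_zero]

variable (g : Fin k → MvPolynomial (Fin k) R) {ε : Fin k → ℕ}
  (hg : ∀ i, IsWeightedHomogeneous δ (g i) (ε i))

include hg in
theorem comp_mem {i u : ℕ} {a : MvPolynomial (Fin k) R} (ha : a ∈ pre g i) :
    weightedHomogeneousComponent δ u a ∈ pre g i := by
  have key : ∀ (s : MvPolynomial (Fin k) R) (v : ℕ),
      weightedHomogeneousComponent δ v (s * a) ∈ pre g i := by
    induction ha using Submodule.span_induction with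
    | mem x hx =>
      obtain ⟨j, hj, rfl⟩ := hx
      intro s v
      rw [comp_mul (hg j)]
      split_ifs
      · exact Ideal.mul_mem_left _ _ (mem_pre g hj)
      · exact zero_mem _
    | zero => intro s v; simp
    | add x y _ _ hx hy => intro s v; rw [mul_add, map_add]; exact add_mem (hx s v) (hy s v)
    | smul r x _ hx => intro s v; rw [smul_eq_mul, ← mul_assoc]; exact hx _ v
  simpa using key 1 u

theorem mem_of_comp_mem {I : Ideal (MvPolynomial (Fin k) R)} {a : MvPolynomial (Fin k) R}
    (h : ∀ u, weightedHomogeneousComponent δ u a ∈ I) : a ∈ I := by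
  rw [← sum_weightedHomogeneousComponent δ a, finsum_eq_sum _ (weightedHomogeneousComponent_finsupp a)]
  exact Ideal.sum_mem _ fun u _ => h u

end Homogeneous

section Field

variable {F : Type u} [Field F] {δ : Fin k → ℕ} (hδ : ∀ i, 0 < δ i)
  (g : Fin k → MvPolynomial (Fin k) F) {ε : Fin k → ℕ}
  (hg : ∀ i, IsWeightedHomogeneous δ (g i) (ε i))

include hδ hg in
/-- Homogeneous elements cutting out the origin form a regular sequence. -/
theorem reg_of_radical (hε : ∀ i, 0 < ε i)
    (hrad : ∀ i, MvPolynomial.X i ∈ (Ideal.span (Set.range g)).radical) : Reg g := by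
  classical
  let P := MvPolynomial (Fin k) F
  let m : Ideal P := RingHom.ker (constantCoeff : P →+* F)
  have hm : m.IsMaximal := RingHom.ker_isMaximal_of_surjective _ fun c => ⟨C c, constantCoeff_C _ c⟩
  have hgm : ∀ i, g i ∈ m := fun i => by
    by_contra h
    have h2 := hg i (show (g i).coeff 0 ≠ 0 from h)
    rw [map_zero] at h2
    exact (hε i).ne h2
  have hirr : (GrSyz.irrel (GrSyz.stdGr F (Fin k))).toIdeal = Ideal.span (Set.range (X : Fin k → P)) := by
    refine le_antisymm (Ideal.span_le.mpr ?_) (Ideal.span_le.mpr ?_)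
    · rintro a ⟨d, hd, ha⟩
      rw [SetLike.mem_coe, ← Set.image_univ, mem_ideal_span_X_image]
      intro e he
      by_contra hc
      push Not at hc
      obtain rfl : e = 0 := Finsupp.ext fun v => hc v trivial
      have := ha (mem_support_iff.mp he)
      rw [map_zero] at this
      omega
    · rintro _ ⟨i, rfl⟩
      exact Lib.Graded.Poly.X_mem_irrel i
  have hmX : m = Ideal.span (Set.range (X : Fin k → P)) := by
    refine le_antisymm (fun a ha => ?_) (Ideal.span_le.mpr ?_)
    · rw [← Set.image_univ, mem_ideal_span_X_image]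
      intro e he
      by_contra hc
      push Not at hc
      obtain rfl : e = 0 := Finsupp.ext fun v => hc v trivial
      exact mem_support_iff.mp he ha
    · rintro _ ⟨i, rfl⟩; exact constantCoeff_X F i
  let S := Localization.AtPrime m
  let gS : Fin k → S := fun i => algebraMap P S (g i)
  have hdepth : (k : ℕ∞) ≤ LocCoh.depth S (LocalizedModule m.primeCompl P) := by
    rw [← Lib.Graded.PolyDepth.idealDepth_irrel (k := F) (n := k)]
    exact Depth.Local.idealDepth_le_depth_localization _ _ m (hirr.trans hmX.symm).le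
  have hrange : Set.range gS = algebraMap P S '' Set.range g := by
    rw [← Set.range_comp]; rfl
  have hradS : (Ideal.ofList (List.ofFn gS)).radical = (IsLocalRing.maximalIdeal S).radical := by
    have h0 : Ideal.ofList (List.ofFn gS) = (Ideal.span (Set.range g)).map (algebraMap P S) := by
      rw [Ideal.map_span, ← hrange, Ideal.ofList]
      congr 1
      ext x
      simp [List.mem_ofFn]
    refine le_antisymm (Ideal.radical_mono (IsLocalRing.le_maximalIdeal fun h => ?_))
      (Ideal.radical_le_radical_iff.mpr ?_)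
    · have h1 : Ideal.ofList (List.ofFn gS) ≤ IsLocalRing.maximalIdeal S := by
        rw [h0, ← Localization.AtPrime.map_eq_maximalIdeal]
        exact Ideal.map_mono (Ideal.span_le.mpr (Set.range_subset_iff.mpr hgm))
      exact (IsLocalRing.maximalIdeal.isMaximal S).ne_top (top_le_iff.mp (h ▸ h1))
    · rw [h0, ← Localization.AtPrime.map_eq_maximalIdeal]
      refine le_trans (Ideal.map_mono ?_) (Ideal.map_radical_le _)
      exact hmX.le.trans (Ideal.span_le.mpr (Set.range_subset_iff.mpr hrad))
  have hnt : Nontrivial (LocalizedModule m.primeCompl P) :=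
    inferInstanceAs (Nontrivial (Localization m.primeCompl))
  have := Module.Finite.of_isLocalizedModule m.primeCompl (Rₚ := S)
    (LocalizedModule.mkLinearMap m.primeCompl P)
  have hreg : RingTheory.Sequence.IsWeaklyRegular S (List.ofFn gS) := by
    refine Depth.Span.isWeaklyRegular_of_idealDepth_eq _ S (fun x hx => ?_) ?_
    · obtain ⟨i, rfl⟩ := (List.mem_ofFn' _ _).mp hx
      exact (IsLocalization.AtPrime.to_map_mem_maximal_iff S m (g i)).mpr (hgm i)
    · rw [Depth.Ext.idealDepth_radical_eq _ _ hradS, List.length_ofFn]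
      exact hdepth
  rw [isWeaklyRegular_iff] at hreg
  intro i a ha
  refine mem_of_comp_mem (δ := δ) fun u => ?_
  have hu : weightedHomogeneousComponent δ u a * g i ∈ pre g i := by
    have h1 := comp_mem g hg (u := u + ε i) ha
    rwa [comp_mul (hg i), if_pos (Nat.le_add_left _ _), Nat.add_sub_cancel] at h1
  have hpre : pre gS i = (pre g i).map (algebraMap P S) := by
    rw [pre, pre, Ideal.map_span, ← Set.image_comp]
    rfl
  have h2 : algebraMap P S (weightedHomogeneousComponent δ u a) ∈ (pre g i).map (algebraMap P S) := by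
    rw [← hpre]
    refine hreg i _ ?_
    rw [hpre, ← map_mul]
    exact Ideal.mem_map_of_mem _ hu
  obtain ⟨s, hs, hsa⟩ := (IsLocalization.algebraMap_mem_map_algebraMap_iff m.primeCompl _ _ _).mp h2
  have h3 := comp_mem g hg (u := u) hsa
  rw [comp_mul (weightedHomogeneousComponent_isWeightedHomogeneous u a), if_pos le_rfl,
    Nat.sub_self, weightedHomogeneousComponent_zero _ (fun j => (hδ j).ne'), mul_comm] at h3
  have hs0 : IsUnit (C (s.coeff 0) : P) := (isUnit_iff_ne_zero.mpr (show s.coeff 0 ≠ 0 from hs)).map C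
  rw [mul_comm] at h3
  exact (Ideal.unit_mul_mem_iff_mem _ hs0).mp h3

end Field

section Hilbert

variable {F : Type u} [Field F] {δ : Fin k → ℕ} (g : Fin k → MvPolynomial (Fin k) F)

variable (δ) in
/-- A graded piece of the quotient by the first `i` elements. -/
noncomputable def Q (i u : ℕ) : Submodule F (MvPolynomial (Fin k) F ⧸ pre g i) :=
  (weightedHomogeneousSubmodule F δ u).map (Ideal.Quotient.mkₐ F (pre g i)).toLinearMap

variable (δ) in
/-- The Hilbert series of the quotient by the first `i` elements. -/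
noncomputable def HS (i : ℕ) : PowerSeries ℤ :=
  PowerSeries.mk fun u => (Module.finrank F (Q δ g i u) : ℤ)

theorem finite_piece (hδ : ∀ i, 0 < δ i) (u : ℕ) :
    Module.Finite F (weightedHomogeneousSubmodule F δ u) := by
  have hle : weightedHomogeneousSubmodule F δ u ≤ restrictTotalDegree (Fin k) F u := by
    intro p hp
    rw [mem_restrictTotalDegree, totalDegree, Finset.sup_le_iff]
    intro d hd
    rw [← hp (mem_support_iff.mp hd), Finsupp.weight_apply]
    exact Finset.sum_le_sum fun i _ => by
      simp only [smul_eq_mul]; exact Nat.le_mul_of_pos_right _ (hδ i)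
  exact Module.Finite.of_injective _ (Submodule.inclusion_injective hle)

theorem finite_Q (hδ : ∀ i, 0 < δ i) (i u : ℕ) : Module.Finite F (Q δ g i u) := by
  have := finite_piece (F := F) hδ u
  exact Module.Finite.map _ _

theorem HS_zero_eq (g' : Fin k → MvPolynomial (Fin k) F) : HS δ g 0 = HS δ g' 0 := by
  refine PowerSeries.ext fun u => ?_
  have key : ∀ g : Fin k → MvPolynomial (Fin k) F,
      Module.finrank F (Q δ g 0 u) = Module.finrank F (weightedHomogeneousSubmodule F δ u) := by
    intro g
    refine (LinearEquiv.finrank_eq (Submodule.equivMapOfInjective _ ?_ _)).symm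
    intro a b hab
    have h : a - b ∈ pre g 0 := Ideal.Quotient.eq.mp hab
    rw [pre_zero, Ideal.mem_bot, sub_eq_zero] at h
    exact h
  simp only [HS, PowerSeries.coeff_mk, key]

variable {ε : Fin k → ℕ} (hg : ∀ i, IsWeightedHomogeneous δ (g i) (ε i))

include hg in
theorem finrank_Q (hδ : ∀ i, 0 < δ i) (hreg : Reg g) (i : Fin k) (u : ℕ) :
    Module.finrank F (Q δ g i u) = Module.finrank F (Q δ g ((i : ℕ) + 1) u) +
      if ε i ≤ u then Module.finrank F (Q δ g i (u - ε i)) else 0 := by
  classical
  let P := MvPolynomial (Fin k) F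
  let f : (P ⧸ pre g i) →ₗ[F] P ⧸ pre g ((i : ℕ) + 1) :=
    (Ideal.Quotient.factorₐ F (pre_mono g (Nat.le_succ _))).toLinearMap
  let μ : (P ⧸ pre g i) →ₗ[F] P ⧸ pre g i :=
    LinearMap.mulRight F (Ideal.Quotient.mk (pre g i) (g i))
  have hμ : Function.Injective μ := by
    rw [← LinearMap.ker_eq_bot, Submodule.eq_bot_iff]
    intro x hx
    obtain ⟨a, rfl⟩ := Ideal.Quotient.mk_surjective x
    rw [LinearMap.mem_ker, LinearMap.mulRight_apply, ← map_mul, Ideal.Quotient.eq_zero_iff_mem] at hx
    exact Ideal.Quotient.eq_zero_iff_mem.mpr (hreg i a hx)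
  have hrange : LinearMap.range (f.domRestrict (Q δ g i u)) = Q δ g ((i : ℕ) + 1) u := by
    rw [LinearMap.range_domRestrict, Q, Q, ← Submodule.map_comp]
    rfl
  let K : Submodule F (P ⧸ pre g i) := if ε i ≤ u then (Q δ g i (u - ε i)).map μ else ⊥
  have hker : Q δ g i u ⊓ LinearMap.ker f = K := by
    refine le_antisymm ?_ ?_
    · rintro _ ⟨⟨w, hw, rfl⟩, hx⟩
      have hw1 : w ∈ pre g ((i : ℕ) + 1) := Ideal.Quotient.eq_zero_iff_mem.mp hx
      rw [pre_succ, Submodule.mem_sup] at hw1
      obtain ⟨a, ha, b, hb, hab⟩ := hw1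
      obtain ⟨c, rfl⟩ := Ideal.mem_span_singleton'.mp hb
      have hwu : w = weightedHomogeneousComponent δ u a +
          weightedHomogeneousComponent δ u (c * g i) := by
        rw [← map_add, hab, weightedHomogeneousComponent_eq_self hw]
      rw [comp_mul (hg i)] at hwu
      have hsub : w - weightedHomogeneousComponent δ u a ∈ K.comap
          (Ideal.Quotient.mkₐ F (pre g i)).toLinearMap := by
        rw [hwu, add_sub_cancel_left]
        simp only [K]
        split_ifs with h
        · exact ⟨_, ⟨_, weightedHomogeneousComponent_mem _ _ _, rfl⟩,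
            (map_mul (Ideal.Quotient.mk (pre g i)) _ _).symm⟩
        · rw [Submodule.mem_comap, map_zero]; exact zero_mem _
      rw [Submodule.mem_comap, map_sub] at hsub
      have h0 : (Ideal.Quotient.mkₐ F (pre g i)).toLinearMap
          (weightedHomogeneousComponent δ u a) = 0 :=
        Ideal.Quotient.eq_zero_iff_mem.mpr (comp_mem g hg ha)
      rwa [h0, sub_zero] at hsub
    · simp only [K]
      split_ifs with h
      · rintro _ ⟨_, ⟨w, hw, rfl⟩, rfl⟩
        refine ⟨⟨w * g i, ?_, map_mul (Ideal.Quotient.mk (pre g i)) w (g i)⟩, ?_⟩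
        · have h1 := IsWeightedHomogeneous.mul
            (show IsWeightedHomogeneous δ w (u - ε i) from hw) (hg i)
          rwa [Nat.sub_add_cancel h] at h1
        · show f (Ideal.Quotient.mk (pre g i) w * Ideal.Quotient.mk (pre g i) (g i)) = 0
          rw [← map_mul (Ideal.Quotient.mk (pre g i))]
          exact Ideal.Quotient.eq_zero_iff_mem.mpr
            (Ideal.mul_mem_left _ _ (mem_pre g (Nat.lt_succ_self _)))
      · exact bot_le
  have := finite_Q g hδ i u
  have h1 := LinearMap.finrank_range_add_finrank_ker (f.domRestrict (Q δ g i u))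
  have h2 : Module.finrank F (LinearMap.ker (f.domRestrict (Q δ g i u))) = Module.finrank F K := by
    have hh : (LinearMap.ker (f.domRestrict (Q δ g i u))).map (Q δ g i u).subtype = K := by
      rw [← hker, LinearMap.ker_domRestrict, Submodule.map_comap_subtype]
    rw [← hh, Submodule.finrank_map_subtype_eq]
  rw [← h1, hrange, h2]
  congr 1
  by_cases h : ε i ≤ u
  · rw [(LinearEquiv.ofEq K ((Q δ g i (u - ε i)).map μ) (if_pos h)).finrank_eq, if_pos h]
    exact (LinearEquiv.finrank_eq (Submodule.equivMapOfInjective μ hμ _)).symm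
  · rw [(LinearEquiv.ofEq K ⊥ (if_neg h)).finrank_eq, if_neg h]
    exact finrank_bot F _

include hg in
theorem HS_succ (hδ : ∀ i, 0 < δ i) (hreg : Reg g) (i : Fin k) :
    HS δ g ((i : ℕ) + 1) = HS δ g i * (1 - PowerSeries.X ^ ε i) := by
  refine PowerSeries.ext fun u => ?_
  rw [mul_sub, mul_one, map_sub, PowerSeries.coeff_mul_X_pow']
  simp only [HS, PowerSeries.coeff_mk, finrank_Q g hg hδ hreg i u]
  split_ifs <;> push_cast <;> ring

include hg in
theorem HS_eq (hδ : ∀ i, 0 < δ i) (hreg : Reg g) :
    HS δ g k = HS δ g 0 * ∏ i : Fin k, (1 - PowerSeries.X ^ ε i) := by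
  classical
  have key : ∀ j, j ≤ k → HS δ g j = HS δ g 0 *
      ∏ i ∈ Finset.univ.filter (fun i : Fin k => (i : ℕ) < j), (1 - PowerSeries.X ^ ε i) := by
    intro j
    induction j with
    | zero => intro _; simp
    | succ j ih =>
      intro hj
      rw [HS_succ g hg hδ hreg ⟨j, hj⟩, ih (by omega)]
      have hins : Finset.univ.filter (fun i : Fin k => (i : ℕ) < j + 1) =
          insert ⟨j, hj⟩ (Finset.univ.filter fun i : Fin k => (i : ℕ) < j) := by
        ext i; simp [Fin.ext_iff]; omega
      rw [hins, Finset.prod_insert (by simp)]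
      ring
  rw [key k le_rfl, Finset.filter_true_of_mem fun i _ => i.2]

theorem reg_X (hδ : ∀ i, 0 < δ i) :
    Reg (MvPolynomial.X : Fin k → MvPolynomial (Fin k) F) :=
  reg_of_radical hδ _ (ε := δ) (fun i => isWeightedHomogeneous_X F δ i) hδ fun i =>
    Ideal.le_radical (Ideal.subset_span ⟨i, rfl⟩)

theorem HS_zero_mul (hδ : ∀ i, 0 < δ i) :
    HS δ g 0 * ∏ i : Fin k, (1 - PowerSeries.X ^ δ i) = 1 := by
  classical
  rw [HS_zero_eq g (MvPolynomial.X : Fin k → MvPolynomial (Fin k) F),
    ← HS_eq _ (fun i => isWeightedHomogeneous_X F δ i) hδ (reg_X hδ)]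
  refine PowerSeries.ext fun u => ?_
  simp only [HS, PowerSeries.coeff_mk, PowerSeries.coeff_one]
  have hne : pre (MvPolynomial.X : Fin k → MvPolynomial (Fin k) F) k ≤
      RingHom.ker (constantCoeff : MvPolynomial (Fin k) F →+* F) := by
    rw [pre_self, Ideal.span_le]; rintro _ ⟨i, rfl⟩; exact constantCoeff_X F i
  split_ifs with hu
  · subst hu
    have hQ : Q δ (MvPolynomial.X : Fin k → MvPolynomial (Fin k) F) k 0 = Submodule.span F {1} := by
      refine le_antisymm ?_ ?_
      · rintro _ ⟨w, hw, rfl⟩
        have h1 : w = C (w.coeff 0) := by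
          conv_lhs => rw [← weightedHomogeneousComponent_eq_self hw,
            weightedHomogeneousComponent_zero _ fun j => (hδ j).ne']
        rw [h1, Submodule.mem_span_singleton]
        exact ⟨w.coeff 0, (Algebra.algebraMap_eq_smul_one _).symm⟩
      · rw [Submodule.span_singleton_le_iff_mem]
        exact ⟨1, isWeightedHomogeneous_one F δ, map_one (Ideal.Quotient.mk _)⟩
    rw [hQ, finrank_span_singleton, Nat.cast_one]
    intro h1
    rw [← map_one (Ideal.Quotient.mk _), Ideal.Quotient.eq_zero_iff_mem] at h1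
    exact one_ne_zero ((map_one (constantCoeff : MvPolynomial (Fin k) F →+* F)).symm.trans
      (RingHom.mem_ker.mp (hne h1)))
  · have hQ : Q δ (MvPolynomial.X : Fin k → MvPolynomial (Fin k) F) k u = ⊥ := by
      rw [Submodule.eq_bot_iff]
      rintro _ ⟨w, hw, rfl⟩
      refine Ideal.Quotient.eq_zero_iff_mem.mpr ?_
      rw [pre_self, ← Set.image_univ, mem_ideal_span_X_image]
      intro e he
      by_contra hc
      push Not at hc
      obtain rfl : e = 0 := Finsupp.ext fun v => hc v trivial
      have := hw (mem_support_iff.mp he)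
      rw [map_zero] at this
      exact hu this.symm
    rw [hQ, finrank_bot, Nat.cast_zero]

include hg in
theorem hilbert (hδ : ∀ i, 0 < δ i) (hreg : Reg g) :
    HS δ g k * ∏ i : Fin k, (1 - PowerSeries.X ^ δ i) = ∏ i : Fin k, (1 - PowerSeries.X ^ ε i) := by
  rw [HS_eq g hg hδ hreg, mul_right_comm, HS_zero_mul g hδ, one_mul]

variable (δ) in
/-- The Hilbert function of the quotient by all the elements. -/
noncomputable def hf (u : ℕ) : ℕ := Module.finrank F ↥(Submodule.map
  (Ideal.Quotient.mkₐ F (Ideal.span (Set.range g))).toLinearMap (weightedHomogeneousSubmodule F δ u))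

theorem finrank_Q_top (u : ℕ) : Module.finrank F (Q δ g k u) = hf δ g u := by
  suffices ∀ J, J = pre g k → Module.finrank F ↥(Submodule.map (Ideal.Quotient.mkₐ F J).toLinearMap
      (weightedHomogeneousSubmodule F δ u)) = Module.finrank F (Q δ g k u) from
    (this _ (pre_self g).symm).symm
  rintro J rfl
  rfl

include hg in
theorem hilbert' (hδ : ∀ i, 0 < δ i) (hreg : Reg g) :
    (PowerSeries.mk fun u => (hf δ g u : ℤ)) * ∏ i : Fin k, (1 - PowerSeries.X ^ δ i) =
      ∏ i : Fin k, (1 - PowerSeries.X ^ ε i) := by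
  rw [← hilbert g hg hδ hreg]
  congr 1
  simp only [HS, finrank_Q_top]

include hg in
theorem exists_bound (hδ : ∀ i, 0 < δ i)
    (hfin : Module.Finite F (MvPolynomial (Fin k) F ⧸ Ideal.span (Set.range g))) :
    ∃ N : ℕ, (∀ u, N ≤ u → Submodule.map (Ideal.Quotient.mkₐ F (Ideal.span (Set.range g))).toLinearMap
        (weightedHomogeneousSubmodule F δ u) = ⊥) ∧
      Module.finrank F (MvPolynomial (Fin k) F ⧸ Ideal.span (Set.range g)) =
        ∑ u ∈ Finset.range N, hf δ g u := by
  classical
  let P := MvPolynomial (Fin k) F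
  let J : Ideal P := Ideal.span (Set.range g)
  let q : P →ₗ[F] P ⧸ J := (Ideal.Quotient.mkₐ F J).toLinearMap
  have hker : ∀ (u : ℕ) (a : P), q a = 0 → q (weightedHomogeneousComponent δ u a) = 0 := by
    intro u a ha
    have h1 : a ∈ pre g k := by rw [pre_self]; exact Ideal.Quotient.eq_zero_iff_mem.mp ha
    have h2 := comp_mem g hg (u := u) h1
    rw [pre_self] at h2
    exact Ideal.Quotient.eq_zero_iff_mem.mpr h2
  have hc : ∀ u, ∃ c : (P ⧸ J) →ₗ[F] P ⧸ J, ∀ a, c (q a) = q (weightedHomogeneousComponent δ u a) :=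
    fun u => ⟨(LinearMap.ker q).liftQ (q ∘ₗ weightedHomogeneousComponent δ u) (fun a ha => hker u a ha) ∘ₗ
      (LinearMap.quotKerEquivOfSurjective q Ideal.Quotient.mk_surjective).symm.toLinearMap,
      fun a => by
        rw [LinearMap.comp_apply, LinearEquiv.coe_coe]
        rw [show (LinearMap.quotKerEquivOfSurjective q Ideal.Quotient.mk_surjective).symm (q a) =
          Submodule.Quotient.mk a from (LinearEquiv.symm_apply_eq _).mpr rfl]
        rfl⟩
  choose c hc using hc
  obtain ⟨s, hs⟩ := hfin.fg_top
  choose l hl using fun x : P ⧸ J => Ideal.Quotient.mk_surjective x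
  let N := (s.sup fun x => weightedTotalDegree δ (l x)) + 1
  have hN : ∀ u, N ≤ u → c u = 0 := fun u hu => LinearMap.ext_on hs fun x hx => by
    have h1 : c u (q (l x)) = 0 := by
      rw [hc, weightedHomogeneousComponent_eq_zero u (l x) (lt_of_lt_of_le (Nat.lt_succ_of_le
        (Finset.le_sup (f := fun x => weightedTotalDegree δ (l x)) hx)) hu), map_zero]
    rwa [show q (l x) = x from hl x] at h1
  have hsum : ∀ x : P ⧸ J, ∑ u ∈ Finset.range N, c u x = x := by
    intro x
    have hx : ∑ u ∈ Finset.range N, c u = LinearMap.id := LinearMap.ext_on hs fun y hy => by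
      rw [LinearMap.sum_apply, LinearMap.id_apply, ← show q (l y) = y from hl y]
      simp only [hc, ← map_sum]
      congr 1
      conv_rhs => rw [← sum_weightedHomogeneousComponent δ (l y)]
      rw [finsum_eq_sum_of_support_subset]
      intro u hu
      rw [Finset.coe_range, Set.mem_Iio]
      by_contra hcon
      exact hu (weightedHomogeneousComponent_eq_zero u (l y) (lt_of_lt_of_le (Nat.lt_succ_of_le
        (Finset.le_sup (f := fun x => weightedTotalDegree δ (l x)) hy)) (not_lt.mp hcon)))
    rw [← LinearMap.sum_apply, hx, LinearMap.id_apply]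
  have hcmem : ∀ u x, c u x ∈ Submodule.map q (weightedHomogeneousSubmodule F δ u) := by
    intro u x
    rw [← show q (l x) = x from hl x, hc]
    exact ⟨_, weightedHomogeneousComponent_mem _ _ _, rfl⟩
  have hcv : ∀ u v x, x ∈ Submodule.map q (weightedHomogeneousSubmodule F δ v) →
      c u x = if u = v then x else 0 := by
    rintro u v _ ⟨a, ha, rfl⟩
    rw [hc, weightedHomogeneousComponent_of_mem ha]
    split_ifs
    · rfl
    · exact map_zero q
  refine ⟨N, fun u hu => ?_, ?_⟩
  · rw [Submodule.eq_bot_iff]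
    intro x hx
    rw [← (hcv u u x hx).trans (if_pos rfl), hN u hu]; rfl
  · let e : (P ⧸ J) ≃ₗ[F] ((u : Fin N) → Submodule.map q (weightedHomogeneousSubmodule F δ u)) :=
      LinearEquiv.ofLinear
        (LinearMap.pi fun u : Fin N => (c u).codRestrict _ (hcmem u))
        (∑ u : Fin N, (Submodule.subtype _) ∘ₗ LinearMap.proj u)
        (LinearMap.ext fun y => by
          funext u
          refine Subtype.ext ?_
          simp only [LinearMap.comp_apply, LinearMap.pi_apply, LinearMap.codRestrict_apply,
            LinearMap.sum_apply, map_sum, Submodule.subtype_apply, LinearMap.proj_apply,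
            LinearMap.id_apply, AddSubmonoidClass.coe_finsetSum]
          rw [Finset.sum_eq_single u]
          · exact (hcv u u _ (y u).2).trans (if_pos rfl)
          · intro v _ hv
            exact (hcv u v _ (y v).2).trans (if_neg fun h => hv (Fin.ext h.symm))
          · intro h; exact absurd (Finset.mem_univ u) h)
        (LinearMap.ext fun x => by
          simp only [LinearMap.comp_apply, LinearMap.sum_apply, Submodule.subtype_apply,
            LinearMap.proj_apply, LinearMap.pi_apply, LinearMap.codRestrict_apply,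
            LinearMap.id_apply]
          rw [Fin.sum_univ_eq_sum_range (fun u => c u x)]
          exact hsum x)
    have : ∀ u : ℕ, Module.Finite F (Submodule.map q (weightedHomogeneousSubmodule F δ u)) :=
      fun u => inferInstance
    rw [e.finrank_eq, Module.finrank_pi_fintype,
      Fin.sum_univ_eq_sum_range (fun u => Module.finrank F
        (Submodule.map q (weightedHomogeneousSubmodule F δ u)))]
    rfl

open Polynomial in
theorem natDegree_one_sub_X_pow {a : ℕ} (ha : 0 < a) :
    (1 - (Polynomial.X : ℤ[X]) ^ a).natDegree = a := by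
  rw [show (1 : ℤ[X]) - Polynomial.X ^ a = -(Polynomial.X ^ a - Polynomial.C 1) by simp,
    natDegree_neg, natDegree_X_pow_sub_C]

open Polynomial in
include hg in
theorem degree_and_finrank (hδ : ∀ i, 0 < δ i) (hε : ∀ i, 0 < ε i) (hreg : Reg g)
    (hfin : Module.Finite F (MvPolynomial (Fin k) F ⧸ Ideal.span (Set.range g))) :
    Module.finrank F (MvPolynomial (Fin k) F ⧸ Ideal.span (Set.range g)) * ∏ i, δ i = ∏ i, ε i ∧
    Submodule.map (Ideal.Quotient.mkₐ F (Ideal.span (Set.range g))).toLinearMap
        (weightedHomogeneousSubmodule F δ (Finset.univ.sum ε - Finset.univ.sum δ)) ≠ ⊥ ∧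
      ∀ u : ℕ, Finset.univ.sum ε - Finset.univ.sum δ < u →
        Submodule.map (Ideal.Quotient.mkₐ F (Ideal.span (Set.range g))).toLinearMap
          (weightedHomogeneousSubmodule F δ u) = ⊥ := by
  classical
  obtain ⟨N, hN, hsum⟩ := exists_bound g hg hδ hfin
  let H : ℤ[X] := ∑ u ∈ Finset.range N, Polynomial.monomial u (hf δ g u : ℤ)
  have hcoef : ∀ u, H.coeff u = (hf δ g u : ℤ) := fun u => by
    simp only [H, Polynomial.finsetSum_coeff, Polynomial.coeff_monomial]
    rw [Finset.sum_ite_eq']
    split_ifs with h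
    · rfl
    · have h1 := hN u (not_lt.mp fun h' => h (Finset.mem_range.mpr h'))
      have h2 : hf δ g u = 0 := by rw [hf, h1, finrank_bot]
      rw [h2, Nat.cast_zero]
  have hid : H * ∏ i : Fin k, (1 - Polynomial.X ^ δ i) = ∏ i : Fin k, (1 - Polynomial.X ^ ε i) := by
    apply Polynomial.coe_inj.mp
    rw [Polynomial.coe_mul]
    have hc : ∀ d : Fin k → ℕ, ((∏ i : Fin k, (1 - Polynomial.X ^ d i) : ℤ[X]) : PowerSeries ℤ) =
        ∏ i : Fin k, (1 - PowerSeries.X ^ d i) := fun d => by
      rw [← Polynomial.coeToPowerSeries.ringHom_apply, map_prod]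
      simp
    rw [hc, hc, ← hilbert' g hg hδ hreg]
    congr 1
    refine PowerSeries.ext fun u => ?_
    rw [Polynomial.coeff_coe, hcoef, PowerSeries.coeff_mk]
  refine ⟨?_, ?_⟩
  · have hgs : ∀ d : Fin k → ℕ, ∏ i : Fin k, (1 - (Polynomial.X : ℤ[X]) ^ d i) =
        (1 - Polynomial.X) ^ k * ∏ i, ∑ j ∈ Finset.range (d i), Polynomial.X ^ j := fun d => by
      calc ∏ i : Fin k, (1 - (Polynomial.X : ℤ[X]) ^ d i)
          = ∏ i : Fin k, ((1 - Polynomial.X) * ∑ j ∈ Finset.range (d i), Polynomial.X ^ j) :=
            Finset.prod_congr rfl fun i _ => (mul_neg_geom_sum _ _).symm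
        _ = _ := by rw [Finset.prod_mul_distrib, Finset.prod_const, Finset.card_univ, Fintype.card_fin]
    rw [hgs, hgs, mul_left_comm] at hid
    have h1 := congrArg (Polynomial.eval 1) (mul_left_cancel₀ (pow_ne_zero k fun h => by
      have := congrArg (fun p : ℤ[X] => p.coeff 0) h
      simp at this) hid)
    simp only [Polynomial.eval_mul, Polynomial.eval_prod, Polynomial.eval_finsetSum, H,
      Polynomial.eval_monomial, one_pow, mul_one, Polynomial.eval_pow, Polynomial.eval_X, Finset.sum_const, Finset.card_range, nsmul_eq_mul] at h1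
    rw [hsum]
    exact_mod_cast h1
  · have hne : ∀ d : Fin k → ℕ, (∀ i, 0 < d i) → ∀ i ∈ (Finset.univ : Finset (Fin k)),
        (1 - (Polynomial.X : ℤ[X]) ^ d i) ≠ 0 := fun d hd i _ h => by
      have := natDegree_one_sub_X_pow (hd i)
      rw [h, natDegree_zero] at this
      exact (hd i).ne this
    have hdeg : ∀ d : Fin k → ℕ, (∀ i, 0 < d i) →
        (∏ i : Fin k, (1 - (Polynomial.X : ℤ[X]) ^ d i)).natDegree = Finset.univ.sum d := fun d hd => by
      rw [natDegree_prod _ _ (hne d hd)]
      exact Finset.sum_congr rfl fun i _ => natDegree_one_sub_X_pow (hd i)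
    have hH : H ≠ 0 := fun h => Finset.prod_ne_zero_iff.mpr (hne ε hε) (by rw [← hid, h, zero_mul])
    have h1 := congrArg natDegree hid
    rw [natDegree_mul hH (Finset.prod_ne_zero_iff.mpr (hne δ hδ)), hdeg δ hδ, hdeg ε hε] at h1
    rw [show Finset.univ.sum ε - Finset.univ.sum δ = H.natDegree by omega]
    refine ⟨fun h => ?_, fun u hu => ?_⟩
    · have h2 := hcoef H.natDegree
      rw [coeff_natDegree, show hf δ g H.natDegree = 0 by rw [hf, h, finrank_bot], Nat.cast_zero,
        leadingCoeff_eq_zero] at h2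
      exact hH h2
    · have h2 := hcoef u
      rw [coeff_eq_zero_of_natDegree_lt hu, eq_comm, Nat.cast_eq_zero, hf] at h2
      have := finite_piece (F := F) hδ u
      exact Submodule.finrank_eq_zero.mp h2

end Hilbert

end Groth.Agent.Lib.GrCI62
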